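import Cfsg.Agent.Fi22Out.Search

/-!
No involution of `Cfsg.Spor.Fi22` commutes with a given element of order 13: an element commuting
with it is determined by the image of one point, and a search leaves only its powers.
-/

set_option autoImplicit false
set_option maxRecDepth 100000
set_option Elab.async false

namespace CfsgLib.Fi23Out

open CfsgLib.CosetEnum CfsgLib.Fi22Out

noncomputable section

/-- A word for an element of order 13. -/
def xw13 : List ℕ := [6, 7, 8, 4, 1, 0, 6, 2, 5, 3]

/-- The element of order 13. -/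
def X13 : Fi22Out.G := prodw Fi22.setup.g xw13

/-- One step of the element of order 13. -/
def stp (i : ℕ) : ℕ := walk Fi22Out.tb xw13 i

/-- Iterates of a step. -/
def orb13 : ℕ → ℕ → List ℕ
  | 0, _ => []
  | f + 1, q => q :: force (stp q) fun r => orb13 f r

/-- Representatives of the orbits of the element of order 13. -/
def reps13 : List ℕ :=
  [0, 2, 4, 8, 9, 11, 12, 16, 22, 24, 31, 32, 34, 38, 45, 49, 54, 55, 56, 57, 60, 61, 78, 79, 98,
  106, 107, 108, 109, 110, 111, 115, 116, 128, 129, 130, 138, 139, 140, 141, 147, 153, 159, 171,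
  176, 178, 182, 192, 206, 211, 213, 220, 221, 223, 227, 229, 237, 241, 245, 250, 252, 258, 265,
  270, 272, 281, 282, 283, 285, 286, 287, 288, 289, 306, 310, 312, 319, 322, 328, 331, 338, 349,
  353, 358, 359, 361, 362, 367, 390, 398, 404, 407, 409, 413, 423, 428, 434, 440, 443, 444, 445,
  455, 460, 461, 463, 498, 501, 506, 511, 516, 517, 519, 520, 535, 538, 548, 556, 562, 564, 567,
  575, 576, 583, 587, 589, 593, 595, 600, 603, 614, 631, 633, 641, 642, 649, 651, 654, 655, 661,
  666, 671, 673, 675, 685, 686, 687, 688, 691, 699, 705, 711, 712, 719, 720, 726, 729, 739, 742,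
  751, 753, 757, 785, 788, 824, 833, 839, 851, 869, 882, 885, 889, 892, 900, 901, 906, 915, 974,
  993, 994, 998, 1003, 1009, 1011, 1021, 1035, 1041, 1061, 1070, 1072, 1082, 1145, 1151, 1173,
  1186, 1194, 1200, 1218, 1224, 1228, 1238, 1245, 1248, 1264, 1265, 1278, 1286, 1318, 1348, 1349,
  1358, 1376, 1379, 1402, 1410, 1433, 1456, 1457, 1462, 1466, 1470, 1522, 1525, 1526, 1537, 1539,
  1540, 1543, 1546, 1552, 1556, 1589, 1620, 1632, 1647, 1654, 1671, 1672, 1697, 1699, 1707, 1711,
  1717, 1720, 1729, 1753, 1755, 1808, 1819, 1829, 1837, 1867, 1878, 1894, 1897, 1900, 1931, 1970,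
  1988, 2044, 2091, 2122, 2128, 2206, 2222, 2289, 2334, 2401, 2436, 2508, 2902]

/-- The union of the orbits of the representatives. -/
def coverU : ℕ := reps13.foldr (fun r acc => (orb13 13 r).foldr (fun q a => Nat.lor (Nat.pow 2 q) a) acc) 0

/-- Every point is in a listed orbit. -/
def coverEntry (U i : ℕ) : Bool := bif Nat.blt i 3510 then bit U i else true

/-- The commutation pattern of an orbit. -/
def patOf (L : List ℕ) : List Bool :=
  match L with
  | [] => []
  | q :: r => (r.take 6).map (com q)

/-- The representatives with the pattern of the chosen point are the three expected ones. -/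
def candOK (r : ℕ) : Bool :=
  bif patOf (orb13 13 r) == patOf (orb13 13 31) then Nat.beq r 31 || Nat.beq r 45 || Nat.beq r 1228
  else true

/-- Extend a list of corresponding points by derivations. -/
def derive : List (ℕ × ℕ) → List (ℕ × ℕ) → List (ℕ × ℕ)
  | [], L => L
  | (i, j) :: s, L =>
    derive s (L ++ [(mv (L.getD i (0, 0)).1 (L.getD j (0, 0)).1, mv (L.getD i (0, 0)).2 (L.getD j (0, 0)).2)])

/-- The correspondence between two orbits. -/
def startPairs (r : ℕ) : List (ℕ × ℕ) := (orb13 13 31).zip (orb13 13 r)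

/-- Two entries with one source and two targets. -/
def clash (L : List (ℕ × ℕ)) (i j : ℕ) : Bool :=
  Nat.blt i L.length && Nat.blt j L.length && Nat.beq (L.getD i (0, 0)).1 (L.getD j (0, 0)).1 &&
    !(Nat.beq (L.getD i (0, 0)).2 (L.getD j (0, 0)).2)

/-- The indices are in range. -/
def indOK : List (ℕ × ℕ) → ℕ → Bool
  | [], _ => true
  | (i, j) :: s, n => Nat.blt i n && Nat.blt j n && indOK s (n + 1)

/-- The derivations from the orbit to itself. -/
def der0 : List (ℕ × ℕ) :=
  [(2, 9), (7, 11), (13, 14), (0, 4), (12, 16), (1, 5), (7, 18), (17, 19), (0, 7), (5, 9), (21,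
  22), (2, 7), (0, 6), (2, 25), (24, 26), (10, 16), (1, 6), (2, 29), (28, 30), (2, 21), (2, 6),
  (1, 7), (33, 34), (32, 35), (6, 12), (1, 25), (37, 38), (8, 33), (1, 8), (12, 41), (40, 42), (2,
  8), (7, 12), (44, 45)]

/-- The first contradiction. -/
def der1 : List (ℕ × ℕ) := [(1, 5), (0, 7), (13, 14)]

/-- The second contradiction. -/
def der2 : List (ℕ × ℕ) := [(1, 5), (0, 6), (13, 14), (14, 13)]

theorem cover13 : allR (coverEntry coverU) 12 0 = true := by decide +kernel

theorem cands13 : reps13.all candOK = true := by decide +kernel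

theorem facts13 : (reps13.all fun r => Nat.blt r 3510) = true ∧ Nat.beq (walk Fi22Out.tb xw13 0) 0 = false ∧
    (List.range 3510).length = 3510 ∧
    (indOK der0 13 && indOK der1 13 && indOK der2 13) = true := by decide +kernel

theorem clash1 : clash (derive der1 (startPairs 45)) 14 15 = true := by decide +kernel

theorem clash2 : clash (derive der2 (startPairs 1228)) 15 16 = true := by decide +kernel

theorem gens13 : (List.range 9).all (fun k =>
    (derive der0 (startPairs 31)).any fun e => Nat.beq e.1 (gpt.getD k 0) && Nat.beq e.2 (gpt.getD k 0)) = true := by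
  decide +kernel

theorem pow13 : allR (fun i => bif Nat.blt i 3510 then Nat.beq (walk Fi22Out.tb (List.replicate 13 xw13).flatten i) i
    else true) 12 0 = true := by decide +kernel

section

variable (S : Act)

theorem xw13_lt : ∀ x ∈ xw13, x < 9 := by decide

/-- A step is the inverse of the action of the element of order 13. -/
theorem stp_spec (i : Fin Fi22Out.N) : (((S.φ X13)⁻¹ i : Fin Fi22Out.N) : ℕ) = stp i := S.spec xw13 xw13_lt i

theorem iter_spec : ∀ (j : ℕ) (i : Fin Fi22Out.N),
    (((((S.φ X13)⁻¹) ^ j) i : Fin Fi22Out.N) : ℕ) = stp^[j] i := by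
  intro j
  induction j with
  | zero => intro i; rfl
  | succ j ih =>
    intro i
    rw [pow_succ, Equiv.Perm.mul_apply, ih, stp_spec S, Function.iterate_succ_apply]

theorem orb13_eq : ∀ (f q : ℕ), orb13 f q = (List.range f).map fun j => stp^[j] q := by
  intro f
  induction f with
  | zero => intro q; rfl
  | succ f ih =>
    intro q
    rw [orb13, force_eq, ih, List.range_succ_eq_map, List.map_cons, List.map_map]
    simp only [Function.iterate_zero, id_eq, List.cons.injEq, true_and]
    exact List.map_congr_left fun j _ => (Function.iterate_succ_apply stp j q).symm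

include S

theorem X13_pow : X13 ^ 13 = 1 := by
  apply S.inj
  rw [map_one, ← inv_eq_one, X13, ← prodw_replicate]
  ext i
  have h := allR_spec 12 0 pow13 i (Nat.zero_le _) (by have := lt_of_pt i; omega)
  rw [show Nat.blt i.val 3510 = true from Nat.blt_eq.mpr (lt_of_pt i)] at h
  rw [S.spec _ (fun x hx => by
    simp only [List.mem_flatten, List.mem_replicate] at hx
    obtain ⟨l, ⟨-, rfl⟩, hx⟩ := hx
    exact xw13_lt x hx) i]
  exact Nat.eq_of_beq_eq_true h

/-- An element sends derived points to derived points. -/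
theorem derive_spec (s : Fi22Out.G) : ∀ (D L : List (ℕ × ℕ)), indOK D L.length = true →
    (∀ e ∈ L, ∃ p q : Fin Fi22Out.N, p.val = e.1 ∧ q.val = e.2 ∧ S.φ s p = q) →
    ∀ e ∈ derive D L, ∃ p q : Fin Fi22Out.N, p.val = e.1 ∧ q.val = e.2 ∧ S.φ s p = q := by
  intro D
  induction D with
  | nil => intro L _ hL; exact hL
  | cons d D ih =>
    obtain ⟨i, j⟩ := d
    intro L hi hL
    simp only [indOK, Bool.and_eq_true, Nat.blt_eq] at hi
    refine ih _ (by rw [List.length_append]; exact hi.2) fun e he => ?_
    rcases List.mem_append.mp he with he | he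
    · exact hL e he
    · obtain rfl := List.mem_singleton.mp he
      obtain ⟨a, a', ha, ha', hsa⟩ := hL (L.getD i (0, 0))
        (by rw [List.getD_eq_getElem _ _ hi.1.1]; exact List.getElem_mem _)
      obtain ⟨b, b', hb, hb', hsb⟩ := hL (L.getD j (0, 0))
        (by rw [List.getD_eq_getElem _ _ hi.1.2]; exact List.getElem_mem _)
      refine ⟨S.φ (d a) b, S.φ (d a') b', ?_, ?_, ?_⟩
      · rw [S.phi_d, ha, hb]
      · rw [S.phi_d, ha', hb']
      · rw [← Equiv.Perm.mul_apply, ← map_mul, S.d_conj hsa, ← hsb, ← Equiv.Perm.mul_apply, ← map_mul,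
          inv_mul_cancel_right]

/-- An involution commuting with the element of order 13 is trivial. -/
theorem eq_one_of_commute_X13 {t : Fi22Out.G} (ht2 : t * t = 1) (hx : Commute t X13) : t = 1 := by
  set P0 : Fin Fi22Out.N := ⟨31, show 31 < 3510 by norm_num⟩ with hP0
  have hperm : ∀ (s : Fi22Out.G), Commute s X13 → ∀ (j : ℕ) (i : Fin Fi22Out.N),
      S.φ s (((S.φ X13)⁻¹ ^ j) i) = ((S.φ X13)⁻¹ ^ j) (S.φ s i) := by
    intro s hs j i
    have := ((hs.inv_right).pow_right j).map S.φ
    rw [map_pow, map_inv] at this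
    exact DFunLike.congr_fun this.eq i
  obtain ⟨r, hr, j, hj⟩ : ∃ r ∈ reps13, ∃ j, stp^[j] r = (S.φ t P0).val := by
    have h := allR_spec 12 0 cover13 (S.φ t P0).val (Nat.zero_le _)
      (by have := lt_of_pt (S.φ t P0); omega)
    unfold coverEntry at h
    rw [show Nat.blt (S.φ t P0).val 3510 = true from Nat.blt_eq.mpr (lt_of_pt _)] at h
    simp only [cond_true, bit_eq] at h
    have key : ∀ (L : List ℕ) (q : ℕ),
        (L.foldr (fun r acc => (orb13 13 r).foldr (fun q a => Nat.lor (Nat.pow 2 q) a) acc) 0).testBit q = true →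
        ∃ r ∈ L, q ∈ orb13 13 r := by
      intro L q
      induction L with
      | nil => intro h; simp at h
      | cons r L ih =>
        intro h
        rw [List.foldr_cons] at h
        revert h
        generalize hO : orb13 13 r = O
        intro h
        suffices hh : q ∈ O ∨ (L.foldr (fun r acc => (orb13 13 r).foldr
            (fun q a => Nat.lor (Nat.pow 2 q) a) acc) 0).testBit q = true by
          rcases hh with hh | hh
          · exact ⟨r, List.mem_cons_self, hO ▸ hh⟩
          · obtain ⟨r', hr', hq⟩ := ih hh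
            exact ⟨r', List.mem_cons_of_mem _ hr', hq⟩
        clear hO
        induction O with
        | nil => exact Or.inr h
        | cons a O ih2 =>
          rw [List.foldr_cons] at h
          rw [show Nat.lor (Nat.pow 2 a) _ = 2 ^ a ||| _ from rfl, Nat.testBit_lor, Bool.or_eq_true,
            Nat.testBit_two_pow, decide_eq_true_eq] at h
          rcases h with h | h
          · exact Or.inl (h ▸ List.mem_cons_self)
          · exact (ih2 h).imp_left (List.mem_cons_of_mem _)
    obtain ⟨r, hr, hq⟩ := key reps13 _ h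
    rw [orb13_eq, List.mem_map] at hq
    obtain ⟨j, -, hj⟩ := hq
    exact ⟨r, hr, j, hj⟩
  have hr' : r < 3510 := Nat.blt_eq.mp (List.all_eq_true.mp facts13.1 r hr)
  set s := X13 ^ j * t with hs_def
  have hs : Commute s X13 := ((Commute.refl X13).pow_left j).mul_left hx
  have hs0 : S.φ s P0 = ⟨r, hr'⟩ := by
    rw [hs_def, map_mul, map_pow, Equiv.Perm.mul_apply]
    apply ((S.φ X13)⁻¹ ^ j).injective
    rw [← Equiv.Perm.mul_apply, inv_pow, inv_mul_cancel, Equiv.Perm.one_apply, ← inv_pow]
    exact Fin.ext (by rw [iter_spec S]; exact hj.symm)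
  have hstart : ∀ e ∈ startPairs r, ∃ p q : Fin Fi22Out.N, p.val = e.1 ∧ q.val = e.2 ∧ S.φ s p = q := by
    intro e he
    rw [startPairs, orb13_eq, orb13_eq, List.zip_map'] at he
    obtain ⟨k, -, rfl⟩ := List.mem_map.mp he
    refine ⟨((S.φ X13)⁻¹ ^ k) P0, ((S.φ X13)⁻¹ ^ k) ⟨r, hr'⟩, iter_spec S k _, iter_spec S k _, ?_⟩
    rw [hperm s hs, hs0]
  have hlen : (startPairs r).length = 13 := by
    simp [startPairs, orb13_eq]
  have hder : ∀ D : List (ℕ × ℕ), indOK D 13 = true →
      ∀ e ∈ derive D (startPairs r), ∃ p q : Fin Fi22Out.N, p.val = e.1 ∧ q.val = e.2 ∧ S.φ s p = q :=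
    fun D hD => derive_spec S s D _ (hlen.symm ▸ hD) hstart
  have hclash : ∀ (D : List (ℕ × ℕ)) (a b : ℕ), indOK D 13 = true →
      clash (derive D (startPairs r)) a b = true → False := by
    intro D a b hD hc
    simp only [clash, Bool.and_eq_true, Nat.blt_eq, Nat.beq_eq, Bool.not_eq_true'] at hc
    obtain ⟨⟨⟨ha, hb⟩, h1⟩, h2⟩ := hc
    obtain ⟨p, q, hp, hq, hpq⟩ := hder D hD _ (List.getElem_mem ha)
    obtain ⟨p', q', hp', hq', hpq'⟩ := hder D hD _ (List.getElem_mem hb)
    rw [List.getD_eq_getElem _ _ ha, List.getD_eq_getElem _ _ hb] at h1 h2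
    have : p = p' := Fin.ext (by rw [hp, hp', h1])
    subst this
    rw [← hq, ← hq', ← hpq, ← hpq', Nat.beq_refl] at h2
    cases h2
  have hI : indOK der0 13 = true ∧ indOK der1 13 = true ∧ indOK der2 13 = true := by
    have := facts13.2.2.2
    simp only [Bool.and_eq_true] at this
    exact ⟨this.1.1, this.1.2, this.2⟩
  -- the patterns agree
  have hpat : patOf (orb13 13 r) = patOf (orb13 13 31) := by
    have hcm : ∀ k : ℕ, com r (stp^[k] r) = com 31 (stp^[k] 31) := by
      intro k
      rw [← iter_spec S k ⟨r, hr'⟩, ← iter_spec S k P0]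
      show com ((⟨r, hr'⟩ : Fin Fi22Out.N) : ℕ) _ = com (P0 : ℕ) _
      rw [← hs0, ← hperm s hs k P0, S.com_map]
    have hpo : ∀ f : ℕ → ℕ, patOf ((List.range 13).map f) =
        (List.range 6).map fun k => com (f 0) (f (k + 1)) := fun f => rfl
    rw [orb13_eq, orb13_eq, hpo, hpo]
    exact List.map_congr_left fun k _ => hcm (k + 1)
  have hc := List.all_eq_true.mp cands13 r hr
  unfold candOK at hc
  rw [hpat, show (patOf (orb13 13 31) == patOf (orb13 13 31)) = true from beq_self_eq_true _] at hc
  simp only [cond_true, Bool.or_eq_true, Nat.beq_eq] at hc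
  rcases hc with (rfl | rfl) | rfl
  · have hs1 : s = 1 := by
      refine S.eq_one_of_comm fun k hk => ?_
      have h := List.all_eq_true.mp gens13 k (List.mem_range.mpr hk)
      simp only [List.any_eq_true, Bool.and_eq_true, Nat.beq_eq] at h
      obtain ⟨e, he, h1, h2⟩ := h
      obtain ⟨p, q, hp, hq, hpq⟩ := hder der0 hI.1 e he
      have e1 : p = gpF k := Fin.ext (hp.trans h1)
      have e2 : q = gpF k := Fin.ext (hq.trans h2)
      rw [← e1, hpq, e2, e1]
    have h13 := X13_pow S
    have ht : t = (X13 ^ j)⁻¹ := eq_inv_of_mul_eq_one_right hs1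
    have ht13 : t ^ 13 = 1 := by
      rw [ht, inv_pow, ← pow_mul, mul_comm, pow_mul, h13, one_pow, inv_one]
    rw [show (13 : ℕ) = 2 * 6 + 1 from rfl, pow_succ, pow_mul, pow_two, ht2, one_pow, one_mul] at ht13
    exact ht13
  · exact (hclash der1 _ _ hI.2.1 clash1).elim
  · exact (hclash der2 _ _ hI.2.2 clash2).elim

end

end

end CfsgLib.Fi23Out
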