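import Cfsg.Agent.Fi23Out.Points
import Cfsg.Agent.Fi23Out.Thirteen
import Cfsg.Agent.Fi22Out.Out

/-!
The outer automorphism group of `Fi₂₃` is trivial.

An automorphism carries the base transposition to an involution commuting with an element of order
13, hence to a conjugate of it. It then acts on `Fi₂₂` as an inner automorphism or as the outer one,
and the outer one admits no image for the last generator.
-/

set_option autoImplicit false
set_option maxRecDepth 100000
set_option linter.style.haveILetI false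

namespace CfsgLib.Fi23Out

open CfsgLib.CosetEnum

noncomputable section

/-- The element of order 13. -/
def XT : GT := prodw Fi23.setup.g xw

theorem xw_lt : ∀ x ∈ xw, x < 10 := by decide

theorem xw_map : xw = xw13.map Fi23.lm := by decide

theorem facts_thirteen : (4089470473293004800 : ℕ).factorization 13 = 1 := by
  have h : (4089470473293004800 : ℕ) = 13 ^ 1 * 314574651791769600 := by norm_num
  rw [h, Nat.factorization_mul (by norm_num) (by norm_num), Nat.Prime.factorization_pow (by norm_num)]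
  simp [Nat.factorization_eq_zero_of_not_dvd (show ¬ 13 ∣ 314574651791769600 by decide +kernel)]

theorem walks : (Nat.beq (walk Fi23H.enum.tb xw 0) 0 && Nat.beq (walk Fi23H.enum.tb xw 1) 1 &&
    Nat.beq (walk Fi23H.enum.tb xw 8006) 8006 && Nat.beq (walk Fi23H.enum.tb [7] 1) 0 &&
    Nat.beq (walk Fi23H.enum.tb (Fi23.zWord.map Fi23.lm) 8006) 1 &&
    Nat.beq (walk Fi23H.enum.tb (Fi23Mult.conjTo 7) 0) 8006) = true := by decide +kernel

theorem twisted_moves : (([1, 8006] : List ℕ).all fun q =>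
    !(Nat.beq (walk Fi23H.enum.tb ((Fi22Out.dw 424).map Fi23.lm) q) q)) = true := by decide +kernel

theorem goal_points : (List.range 9).all (fun k => Nat.beq k 7 ||
    Nat.beq (Fi22Out.gpo.getD k 0) (Fi22Out.gpt.getD k 0)) = true := by decide +kernel

theorem xw13_moves : Nat.beq (walk Fi22Out.tb xw13 0) 0 = false := facts13.2.1

/-- The point 1. -/
def pOne : Fin M := ⟨1, show 1 < 31671 by decide⟩

/-- The point 8006. -/
def pSeven : Fin M := ⟨8006, show 8006 < 31671 by decide⟩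

namespace Act

variable (S : Act)

theorem zz : zT * zT = 1 := by
  obtain ⟨S⟩ := exists_act
  have h : S.ψ (⟨zT, z_mem⟩ * ⟨zT, z_mem⟩) = 1 := by rw [map_mul, S.ψ_z, one_mul]
  rcases S.ψ_ker h with h1 | h1
  · exact h1
  · exact absurd (mul_eq_left.mp h1) S.z_ne_one

theorem pt_seven : S.pt 7 = pSeven := by
  refine Fin.ext ?_
  rw [S.pt_val (by norm_num)]
  have h := walks
  simp only [Bool.and_eq_true, Nat.beq_eq] at h
  exact h.2

include S in
/-- Every automorphism is, after an inner one, one fixing the base transposition. -/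
theorem exists_fix_z (α : MulAut GT) : ∃ g : GT, g * α zT * g⁻¹ = zT := by
  haveI := Fi23.finite_grp
  haveI : _root_.Fact (Nat.Prime 13) := ⟨by norm_num⟩
  have hw := walks
  simp only [Bool.and_eq_true, Nat.beq_eq] at hw
  obtain ⟨⟨⟨⟨⟨w0, w1⟩, w8⟩, wj⟩, wz⟩, wp⟩ := hw
  have hfixX : ∀ p : Fin M, walk Fi23H.enum.tb xw p = p → S.φ XT p = p := fun p hp => by
    have h : (S.φ XT)⁻¹ p = p := Fin.ext ((S.spec xw xw_lt p).trans hp)
    exact (Equiv.Perm.inv_eq_iff_eq.mp h).symm
  have hX0 : S.φ XT 0 = 0 := hfixX 0 w0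
  have hXH : XT ∈ Fi23H.enum.H := (S.mem_H XT).2 hX0
  have hXz : Commute XT zT := (S.stab XT).1 hX0
  have hψX : S.ψ ⟨XT, hXH⟩ = X13 := by
    have h := S.ψ_word xw13 xw13_lt
    rw [show (⟨XT, hXH⟩ : Fi23H.enum.H) = ⟨_, word_mem xw13 xw13_lt⟩ from
      Subtype.ext (congrArg (prodw Fi23.setup.g) xw_map)]
    exact h
  have hX1 : XT ≠ 1 := by
    intro h
    have h1 : X13 = 1 := by
      rw [← hψX, show (⟨XT, hXH⟩ : Fi23H.enum.H) = 1 from Subtype.ext h, map_one]
    exact prodw_ne_one_of_moves (S := Fi22.setup) S.S'.spec xw13 xw13_lt 0 (show 0 < 3510 by norm_num)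
      xw13_moves h1
  have hXp : XT ^ 13 = 1 := by
    rw [XT, ← prodw_replicate]
    exact (Fi23Mult.prodw_eq_ev _).trans
      (Fi23Mult.ev_eq_one (List.replicate 13 xw).flatten (by decide +kernel) (by decide +kernel))
  have hX : orderOf XT = 13 := orderOf_eq_prime hXp hX1
  have hαX : orderOf (α XT) = 13 := by rw [MulEquiv.orderOf_eq, hX]
  have hfac : (Nat.card GT).factorization 13 = 1 := by rw [S.card]; exact facts_thirteen
  have hp : ∀ u : GT, orderOf u = 13 → Nat.card (Subgroup.zpowers u) = 13 ^ (Nat.card GT).factorization 13 :=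
    fun u hu => by rw [Nat.card_zpowers, hu, hfac, pow_one]
  obtain ⟨g, hg⟩ := MulAction.exists_smul_eq GT (Sylow.ofCard _ (hp _ hαX)) (Sylow.ofCard _ (hp _ hX))
  have hgz : g * α XT * g⁻¹ ∈ Subgroup.zpowers XT := by
    have hm : g * α XT * g⁻¹ ∈ ((g • Sylow.ofCard _ (hp _ hαX) : Sylow 13 GT) : Subgroup GT) := by
      rw [Sylow.coe_subgroup_smul, Subgroup.mem_pointwise_smul_iff_inv_smul_mem]
      simp [mul_assoc]
    rw [hg] at hm
    exact hm
  have heq : Subgroup.zpowers (g * α XT * g⁻¹) = Subgroup.zpowers XT := by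
    refine Subgroup.eq_of_le_of_card_ge (Subgroup.zpowers_le.mpr hgz) ?_
    rw [Nat.card_zpowers, Nat.card_zpowers, hX]
    rw [show g * α XT * g⁻¹ = MulAut.conj g (α XT) from rfl, MulEquiv.orderOf_eq, hαX]
  have hc : Commute (g * α zT * g⁻¹) (g * α XT * g⁻¹) := ((hXz.symm).map α).map (MulAut.conj g)
  obtain ⟨m, hm⟩ := Subgroup.mem_zpowers_iff.mp (heq ▸ Subgroup.mem_zpowers XT : XT ∈ Subgroup.zpowers (g * α XT * g⁻¹))
  generalize htdef : g * α zT * g⁻¹ = t at hc
  have htX : Commute t XT := hm ▸ hc.zpow_right m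
  have ht2 : t * t = 1 := by
    rw [← htdef, show g * α zT * g⁻¹ = MulAut.conj g (α zT) from rfl, ← map_mul, ← map_mul, zz, map_one, map_one]
  have ht1 : t ≠ 1 := by
    intro h
    rw [← htdef, show g * α zT * g⁻¹ = MulAut.conj g (α zT) from rfl, MulEquiv.map_eq_one_iff,
      MulEquiv.map_eq_one_iff] at h
    exact S.z_ne_one h
  -- `t` fixes one of the three fixed points
  have hF : ∀ p : Fin M, S.φ XT p = p → p = 0 ∨ p = pOne ∨ p = pSeven := by
    intro p hp
    have h := xFix_ok p.val p.2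
    unfold xFixEntry at h
    rw [show Nat.blt p.val 31671 = true from Nat.blt_eq.mpr p.2,
      show Nat.beq (walk Fi23H.enum.tb xw p.val) p.val = true by
        rw [Nat.beq_eq, ← S.spec xw xw_lt p]
        exact congrArg Fin.val (Equiv.Perm.inv_eq_iff_eq.mpr hp.symm)] at h
    simp only [cond_true, Bool.or_eq_true, Nat.beq_eq] at h
    rcases h with (h | h) | h
    · exact Or.inl (Fin.ext h)
    · exact Or.inr (Or.inl (Fin.ext h))
    · exact Or.inr (Or.inr (Fin.ext h))
  have hperm : ∀ p : Fin M, S.φ XT p = p → S.φ XT (S.φ t p) = S.φ t p := by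
    intro p hp
    rw [← Equiv.Perm.mul_apply, ← map_mul, ← htX.eq, map_mul, Equiv.Perm.mul_apply, hp]
  have hinv : ∀ p, S.φ t (S.φ t p) = p := fun p => by
    rw [← Equiv.Perm.mul_apply, ← map_mul, ht2, map_one, Equiv.Perm.one_apply]
  have hne : (0 : Fin M) ≠ pOne ∧ (0 : Fin M) ≠ pSeven ∧ pOne ≠ pSeven :=
    ⟨fun h => absurd (congrArg Fin.val h) (show (0 : ℕ) ≠ 1 by norm_num),
      fun h => absurd (congrArg Fin.val h) (show (0 : ℕ) ≠ 8006 by norm_num),
      fun h => absurd (congrArg Fin.val h) (show (1 : ℕ) ≠ 8006 by norm_num)⟩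
  have hX1p : S.φ XT pOne = pOne := hfixX pOne w1
  have hX8 : S.φ XT pSeven = pSeven := hfixX pSeven w8
  obtain ⟨p, hpF, hpt⟩ : ∃ p, (p = 0 ∨ p = pOne ∨ p = pSeven) ∧ S.φ t p = p := by
    rcases hF _ (hperm 0 hX0) with a | a | a
    · exact ⟨0, Or.inl rfl, a⟩
    · refine ⟨pSeven, Or.inr (Or.inr rfl), ?_⟩
      rcases hF _ (hperm pSeven hX8) with b | b | b
      · exact absurd ((hinv pSeven).symm.trans (congrArg (S.φ t) b) |>.trans a) hne.2.2.symm
      · exact absurd ((hinv pSeven).symm.trans (congrArg (S.φ t) b) |>.trans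
          ((congrArg (S.φ t) a.symm).trans (hinv 0))) hne.2.1.symm
      · exact b
    · refine ⟨pOne, Or.inr (Or.inl rfl), ?_⟩
      rcases hF _ (hperm pOne hX1p) with b | b | b
      · exact absurd ((hinv pOne).symm.trans (congrArg (S.φ t) b) |>.trans a) hne.2.2
      · exact b
      · exact absurd ((hinv pOne).symm.trans (congrArg (S.φ t) b) |>.trans
          ((congrArg (S.φ t) a.symm).trans (hinv 0))) hne.1.symm
  -- move that point to the base point, centralising the element of order 13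
  have hjX : Commute (Fi23.setup.g 7) XT := by
    rw [← S.dP_pt (x := 7) (by norm_num), S.pt_seven]
    exact ((S.commute_iff XT pSeven).2 hX8).symm
  have hj1 : S.φ (Fi23.setup.g 7) pOne = 0 := Fin.ext ((S.walk_letter (by norm_num) pOne).trans wj)
  obtain ⟨y, hy, hyX⟩ : ∃ y : GT, S.φ y p = 0 ∧ Commute y XT := by
    rcases hpF with rfl | rfl | rfl
    · exact ⟨1, by simp, Commute.one_left _⟩
    · exact ⟨Fi23.setup.g 7, hj1, hjX⟩
    · refine ⟨Fi23.setup.g 7 * zT, ?_, hjX.mul_left hXz.symm⟩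
      have h8 : S.φ zT pSeven = pOne := by
        rw [show zT = zT⁻¹ from (inv_eq_of_mul_eq_one_right zz).symm, map_inv]
        exact Fin.ext ((S.spec _ Fi23.zWord_map pSeven).trans wz)
      rw [map_mul, Equiv.Perm.mul_apply, h8, hj1]
  set t' := y * t * y⁻¹ with ht'def
  have ht'0 : S.φ t' 0 = 0 := by
    rw [ht'def, ← hy, map_mul, map_mul, map_inv, Equiv.Perm.mul_apply, Equiv.Perm.mul_apply,
      Equiv.Perm.inv_def, Equiv.symm_apply_apply, hpt]
  have ht'X : Commute t' XT := (hyX.mul_left htX).mul_left hyX.inv_left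
  have ht'H : t' ∈ Fi23H.enum.H := (S.mem_H t').2 ht'0
  have hψ : S.ψ ⟨t', ht'H⟩ = 1 := by
    refine eq_one_of_commute_X13 S.S' ?_ ?_
    · rw [← map_mul, show (⟨t', ht'H⟩ * ⟨t', ht'H⟩ : Fi23H.enum.H) = 1 from Subtype.ext (by
        show t' * t' = 1
        rw [ht'def, show y * t * y⁻¹ * (y * t * y⁻¹) = y * (t * t) * y⁻¹ by group, ht2, mul_one,
          mul_inv_cancel]), map_one]
    · rw [← hψX]
      exact Commute.map (show Commute (⟨t', ht'H⟩ : Fi23H.enum.H) ⟨XT, hXH⟩ from Subtype.ext ht'X.eq) S.ψ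
  rcases S.ψ_ker hψ with h | h
  · refine absurd ?_ ht1
    change y * t * y⁻¹ = 1 at h
    rwa [mul_inv_eq_one, mul_eq_left] at h
  · refine ⟨y * g, ?_⟩
    calc y * g * α zT * (y * g)⁻¹ = y * (g * α zT * g⁻¹) * y⁻¹ := by group
      _ = zT := by rw [htdef]; exact h

/-- An automorphism of `Fi₂₂` is, after an inner one, trivial or the given outer one on the generators. -/
theorem fi22_cases (π : MulAut Fi22Out.G)
    (hπ : ∀ k, k < 9 → π (Fi22.setup.g k) = Fi22Out.d (Fi22Out.goF k)) (β : MulAut Fi22Out.G) :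
    ∃ u : Fi22Out.G, (∀ x, u * β x * u⁻¹ = x) ∨ (∀ x, u * β x * u⁻¹ = π x) := by
  obtain ⟨S'⟩ := Fi22Out.exists_act
  have h2 : Nat.card (Cfsg.Out Fi22Out.G) = 2 := Fi22Out.card_out_Fi22
  have hπ1 : (QuotientGroup.mk π : Cfsg.Out Fi22Out.G) ≠ 1 := by
    intro h
    obtain ⟨g, hg⟩ := (QuotientGroup.eq_one_iff π).mp h
    obtain ⟨k, hk⟩ := S'.not_inner π hπ g
    exact hk (by rw [← hg]; rfl)
  by_cases hβ : (QuotientGroup.mk β : Cfsg.Out Fi22Out.G) = 1
  · obtain ⟨g, hg⟩ := (QuotientGroup.eq_one_iff β).mp hβ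
    refine ⟨g⁻¹, Or.inl fun x => ?_⟩
    rw [← hg, MulAut.conj_apply]
    group
  · obtain ⟨w, -, huniq⟩ := (Nat.card_eq_two_iff' (1 : Cfsg.Out Fi22Out.G)).mp h2
    have he : (QuotientGroup.mk β : Cfsg.Out Fi22Out.G) = QuotientGroup.mk π :=
      (huniq _ hβ).trans (huniq _ hπ1).symm
    obtain ⟨g, hg⟩ := QuotientGroup.eq.mp he.symm
    refine ⟨(π g)⁻¹, Or.inr fun x => ?_⟩
    have hx : g * x * g⁻¹ = π⁻¹ (β x) := DFunLike.congr_fun hg x
    have hb : β x = π (g * x * g⁻¹) := by
      rw [hx]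
      exact (π.apply_symm_apply _).symm
    rw [hb, map_mul, map_mul, map_inv]
    group

include S in
/-- The outer automorphism group is trivial. -/
theorem card_out : Nat.card (Cfsg.Out GT) = 1 := by
  haveI := Fi23.finite_grp
  haveI := Fi22.finite_grp
  refine CfsgLib.SporadicOut.card_out_eq_one (fun x : Fin 10 => Fi23.setup.g x) ?_ fun α => ?_
  · rw [eq_top_iff, ← Fi23.setup.letSub_all (List.range 10) (fun x hx => List.mem_range.mpr hx)]
    refine (Subgroup.closure_le _).mpr ?_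
    rintro _ ⟨x, hx, rfl⟩
    exact Subgroup.subset_closure ⟨⟨x, List.mem_range.mp hx⟩, by simp⟩
  obtain ⟨g, hg⟩ := S.exists_fix_z α
  let β : MulAut GT := MulAut.conj g * α
  have hβz : β zT = zT := hg
  have hβH : ∀ y, y ∈ Fi23H.enum.H → β y ∈ Fi23H.enum.H := fun y hy => by
    rw [S.mem_H, S.stab] at hy ⊢
    exact hβz ▸ hy.map β
  let βH : Fi23H.enum.H →* Fi23H.enum.H :=
    { toFun := fun y => ⟨β y, hβH _ y.2⟩
      map_one' := Subtype.ext (map_one β)
      map_mul' := fun a b => Subtype.ext (map_mul β _ _) }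
  have hwd : ∀ y y' : Fi23H.enum.H, S.ψ y = S.ψ y' → S.ψ (βH y) = S.ψ (βH y') := by
    intro y y' h
    have h1 : S.ψ (y⁻¹ * y') = 1 := by rw [map_mul, map_inv, h, inv_mul_cancel]
    have h2 : S.ψ (βH (y⁻¹ * y')) = 1 := by
      rcases S.ψ_ker h1 with e | e
      · rw [show y⁻¹ * y' = 1 from Subtype.ext e, map_one, map_one]
      · rw [show βH (y⁻¹ * y') = ⟨zT, z_mem⟩ from Subtype.ext (by
          show β ((y⁻¹ * y' : Fi23H.enum.H) : GT) = zT
          rw [e, hβz])]
        exact S.ψ_z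
    rwa [map_mul, map_inv, map_mul, map_inv, inv_mul_eq_one] at h2
  choose lift hlift using S.ψ_surjective
  let f : Fi22Out.G →* Fi22Out.G :=
    { toFun := fun u => S.ψ (βH (lift u))
      map_one' := (hwd _ 1 (by rw [hlift, map_one])).trans (by rw [map_one, map_one])
      map_mul' := fun a b => (hwd _ (lift a * lift b) (by rw [hlift, map_mul, hlift, hlift])).trans
        (by rw [map_mul, map_mul]) }
  have hf : ∀ y, f (S.ψ y) = S.ψ (βH y) := fun y => hwd _ y (hlift _)
  have hfinj : Function.Injective f := by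
    rw [injective_iff_map_eq_one]
    intro u hu
    have hl : lift u = 1 ∨ (lift u : GT) = zT := by
      rcases S.ψ_ker (y := βH (lift u)) hu with e | e
      · exact Or.inl (Subtype.ext (β.injective (e.trans (map_one β).symm)))
      · exact Or.inr (β.injective (e.trans hβz.symm))
    rcases hl with e | e
    · rw [← hlift u, e, map_one]
    · rw [← hlift u, show lift u = ⟨zT, z_mem⟩ from Subtype.ext e, S.ψ_z]
  let βq : MulAut Fi22Out.G := MulEquiv.ofBijective f (Finite.injective_iff_bijective.mp hfinj)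
  obtain ⟨π, hπ⟩ := S.S'.exists_pi
  obtain ⟨u, hu⟩ := fi22_cases π hπ βq
  obtain ⟨yu, hyu⟩ := S.ψ_surjective u
  let γ : MulAut GT := MulAut.conj (yu : GT) * β
  have hγz : γ zT = zT := by
    show (yu : GT) * β zT * (yu : GT)⁻¹ = zT
    rw [hβz, ((S.stab _).1 ((S.mem_H _).1 yu.2)).eq, mul_inv_cancel_right]
  have hγd : ∀ q, ∃ q', γ (S.dP q) = S.dP q' := fun q => by
    obtain ⟨y, rfl⟩ := S.trans q
    refine ⟨S.φ (γ y) 0, ?_⟩
    rw [← S.conj_z, ← S.conj_z, map_mul, map_mul, map_inv, hγz]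
  have htgt : ∀ k, k < 9 → ∀ i : Fin Fi22Out.N,
      u * βq (Fi22.setup.g k) * u⁻¹ = Fi22Out.d i → γ (Fi23.setup.g (Fi23.lm k)) = S.dP (Fi23.ι i) := by
    intro k hk i hi
    obtain ⟨q, hq⟩ := hγd (S.pt (Fi23.lm k))
    rw [S.dP_pt (lm_lt hk)] at hq
    set y : Fi23H.enum.H := ⟨_, Fi23.g_mem k hk⟩ with hy
    have hψy : S.ψ y = Fi22.setup.g k :=
      S.ψ_eq (Fi23.letter_restricts S.φ S.spec S.S'.φ S.S'.spec k hk)
    have hψ' : S.ψ (yu * βH y * yu⁻¹) = Fi22Out.d i := by
      rw [map_mul, map_mul, map_inv, hyu, ← hf, hψy]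
      exact hi
    have hval : ((yu * βH y * yu⁻¹ : Fi23H.enum.H) : GT) = S.dP q := hq
    have hqH : S.dP q ∈ Fi23H.enum.H := hval ▸ (yu * βH y * yu⁻¹).2
    have hzq : S.φ zT q = q :=
      (S.commute_iff zT q).1 ((S.stab _).1 ((S.mem_H _).1 hqH)).symm
    rcases S.fixed_z hzq with rfl | ⟨j, rfl⟩
    · exfalso
      rw [show yu * βH y * yu⁻¹ = ⟨zT, z_mem⟩ from Subtype.ext (hval.trans S.dP_zero), S.ψ_z] at hψ'
      have h1 := Fi22Out.d_mul_self i
      have h2 : Fi22Out.A = 1 := by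
        have hc := S.S'.conj_A (prodw Fi22.setup.g (Fi22Out.pw i))⁻¹
        rw [S.S'.pw_zero, ← hψ', mul_inv_eq_one, mul_eq_left] at hc
        exact hc
      have h3 := S.S'.phi_d 0 (Fi22Out.gpF 1)
      rw [Fi22Out.Act.d_zero, h2, map_one, Equiv.Perm.one_apply] at h3
      exact absurd (h3.trans Fi22Out.small_facts.1.1) (show (2 : ℕ) ≠ 1 by norm_num)
    · rw [show yu * βH y * yu⁻¹ = ⟨_, S.dP_ι_mem j⟩ from Subtype.ext hval, S.ψ_dP_ι] at hψ'
      rw [hq, S.S'.d_inj hψ']
  -- the image of the last generator is fixed by the images of seven generators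
  obtain ⟨q, hq⟩ := hγd (S.pt 7)
  rw [S.dP_pt (by norm_num)] at hq
  have hgj : ∀ x, x < 10 → x ≠ 6 → x ≠ 7 → Commute (Fi23.setup.g x) (Fi23.setup.g 7) := fun x hx h6 h7 => by
    rw [← Fi23Mult.gen_eq, ← Fi23Mult.gen_eq]
    refine Fi23Mult.gen_comm hx (by norm_num) h7 ?_
    interval_cases x <;> first | rfl | omega
  have hfixq : ∀ k, k < 9 → Fi23.lm k ≠ 6 → ∀ y : GT, γ (Fi23.setup.g (Fi23.lm k)) = y → S.φ y q = q := by
    intro k hk h6 y hy
    rw [← S.commute_iff, ← hq, ← hy]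
    exact ((hgj _ (lm_lt hk) h6 (by interval_cases k <;> decide))).map γ
  have hmove : ¬ Commute (Fi23.setup.g 6) (Fi23.setup.g 7) := by
    intro h
    have h1 : Commute (Fi23.setup.g 6) (S.dP (S.pt 7)) := by rwa [S.dP_pt (by norm_num)]
    have h2 := congrArg Fin.val ((S.commute_iff _ _).1 h1)
    rw [S.walk_letter (by norm_num), S.pt_seven] at h2
    exact absurd h2 (by decide +kernel)
  have hq_cases : (∀ k, k < 9 → k ≠ 7 → γ (Fi23.setup.g (Fi23.lm k)) = Fi23.setup.g (Fi23.lm k)) →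
      q = pOne ∨ q = pSeven := by
    intro hid
    have hlast := last_ok q.val q.2
    unfold lastEntry at hlast
    rw [show Nat.blt q.val 31671 = true from Nat.blt_eq.mpr q.2] at hlast
    have hfx : ∀ k, k < 9 → k ≠ 7 → Fi23.lm k ≠ 6 → walk Fi23H.enum.tb [Fi23.lm k] q = q := fun k hk h7 h6 => by
      rw [← S.walk_letter (lm_lt hk), hfixq k hk h6 _ (hid k hk h7)]
    rw [show fixSeven q.val = true by
      simp only [fixSeven, List.all_cons, List.all_nil, Bool.and_true, Bool.and_eq_true, Nat.beq_eq]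
      exact ⟨hfx 0 (by norm_num) (by norm_num) (by decide), hfx 1 (by norm_num) (by norm_num) (by decide),
        hfx 2 (by norm_num) (by norm_num) (by decide), hfx 3 (by norm_num) (by norm_num) (by decide),
        hfx 4 (by norm_num) (by norm_num) (by decide), hfx 5 (by norm_num) (by norm_num) (by decide),
        hfx 8 (by norm_num) (by norm_num) (by decide)⟩] at hlast
    simp only [cond_true, Bool.or_eq_true, Nat.beq_eq] at hlast
    rcases hlast with (h | h) | h
    · exfalso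
      refine hmove ?_
      have h1 : S.φ (Fi23.setup.g 6) q = q := Fin.ext ((S.walk_letter (by norm_num) q).trans h)
      have h2 := (S.commute_iff _ _).2 h1
      rw [← hq, ← (show γ (Fi23.setup.g 6) = Fi23.setup.g 6 from hid 6 (by norm_num) (by norm_num))] at h2
      have h3 := h2.map γ.symm
      simpa using h3
    · exact Or.inl (Fin.ext h)
    · exact Or.inr (Fin.ext h)
  rcases hu with hu | hu
  · have hid : ∀ k, k < 9 → γ (Fi23.setup.g (Fi23.lm k)) = Fi23.setup.g (Fi23.lm k) := fun k hk => by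
      rw [htgt k hk (Fi22Out.gpF k) ((hu _).trans (S.S'.d_gpF hk).symm), S.ι_gpF hk, S.dP_pt (lm_lt hk)]
    have hall : ∀ c : GT, (∀ k, k < 9 → Commute c (Fi23.setup.g (Fi23.lm k))) → c * γ (Fi23.setup.g 7) * c⁻¹ = Fi23.setup.g 7 →
        ∀ x : Fin 10, c * γ (Fi23.setup.g x) * c⁻¹ = Fi23.setup.g x := by
      intro c hc h7 x
      by_cases hx : (x : ℕ) = 7
      · rw [hx]; exact h7
      · obtain ⟨k, hk, hkx⟩ : ∃ k, k < 9 ∧ Fi23.lm k = (x : ℕ) := by
          have := x.2
          revert hx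
          generalize (x : ℕ) = n at this ⊢
          intro hx
          interval_cases n
          all_goals first
            | omega
            | exact ⟨0, by norm_num, rfl⟩ | exact ⟨1, by norm_num, rfl⟩ | exact ⟨2, by norm_num, rfl⟩
            | exact ⟨3, by norm_num, rfl⟩ | exact ⟨4, by norm_num, rfl⟩ | exact ⟨5, by norm_num, rfl⟩
            | exact ⟨6, by norm_num, rfl⟩ | exact ⟨7, by norm_num, rfl⟩ | exact ⟨8, by norm_num, rfl⟩
        rw [← hkx, hid k hk, (hc k hk).eq, mul_inv_cancel_right]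
    have hfin : ∀ c : GT, (∀ x : Fin 10, c * γ (Fi23.setup.g x) * c⁻¹ = Fi23.setup.g x) →
        ∃ h : GT, ∀ x : Fin 10, h * α (Fi23.setup.g x) * h⁻¹ = Fi23.setup.g x := by
      intro c hc
      refine ⟨c * (yu : GT) * g, fun x => ?_⟩
      refine Eq.trans ?_ (hc x)
      show _ = c * ((yu : GT) * (g * α (Fi23.setup.g x) * g⁻¹) * (yu : GT)⁻¹) * c⁻¹
      group
    rcases hq_cases (fun k hk _ => hid k hk) with h | h
    · refine hfin zT (hall zT (fun k hk => ?_) ?_)
      · exact ((S.stab _).1 ((S.mem_H _).1 (Fi23.g_mem k hk))).symm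
      · have hz8 : S.φ zT pOne = pSeven := by
          have hw := walks
          simp only [Bool.and_eq_true, Nat.beq_eq] at hw
          have : (S.φ zT)⁻¹ pSeven = pOne := Fin.ext ((S.spec _ Fi23.zWord_map pSeven).trans hw.1.2)
          exact (Equiv.Perm.inv_eq_iff_eq.mp this).symm
        rw [hq, h, ← S.d_conj hz8, ← S.pt_seven, S.dP_pt (by norm_num)]
    · refine hfin 1 (hall 1 (fun k _ => Commute.one_left _) ?_)
      rw [one_mul, inv_one, mul_one, hq, h, ← S.pt_seven, S.dP_pt (by norm_num)]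
  · exfalso
    have hid : ∀ k, k < 9 → k ≠ 7 → γ (Fi23.setup.g (Fi23.lm k)) = Fi23.setup.g (Fi23.lm k) := fun k hk h7 => by
      have hgo : Fi22Out.goF k = Fi22Out.gpF k := Fin.ext (by
        have h := List.all_eq_true.mp goal_points k (List.mem_range.mpr hk)
        simp only [Bool.or_eq_true, Nat.beq_eq] at h
        exact h.resolve_left h7)
      rw [htgt k hk (Fi22Out.gpF k) ((hu _).trans ((hπ k hk).trans (congrArg Fi22Out.d hgo))), S.ι_gpF hk,
        S.dP_pt (lm_lt hk)]
    have h424 : γ (Fi23.setup.g (Fi23.lm 7)) = S.dP (Fi23.ι (Fi22Out.goF 7)) :=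
      htgt 7 (by norm_num) _ ((hu _).trans (hπ 7 (by norm_num)))
    have hfix := hfixq 7 (by norm_num) (by decide) _ h424
    rw [S.dP_ι_word] at hfix
    have hlt : ∀ x ∈ (Fi22Out.dw (Fi22Out.goF 7)).map Fi23.lm, x < Fi23.setup.k := fun x hx => by
      obtain ⟨a, ha, rfl⟩ := List.mem_map.mp hx
      exact lm_lt (Fi22Out.dw_lt (Fi22Out.lt_of_pt _) a ha)
    have h1 : walk Fi23H.enum.tb ((Fi22Out.dw (Fi22Out.goF 7)).map Fi23.lm) q = q := by
      rw [← S.spec _ hlt q]
      exact congrArg Fin.val (Equiv.Perm.inv_eq_iff_eq.mpr hfix.symm)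
    rw [show ((Fi22Out.goF 7 : Fin Fi22Out.N) : ℕ) = 424 from rfl] at h1
    have hmv := twisted_moves
    simp only [List.all_cons, List.all_nil, Bool.and_true, Bool.and_eq_true, Bool.not_eq_true'] at hmv
    rcases hq_cases hid with h | h
    · rw [h] at h1
      rw [show ((pOne : Fin M) : ℕ) = 1 from rfl] at h1
      rw [h1] at hmv
      simp at hmv
    · rw [h] at h1
      rw [show ((pSeven : Fin M) : ℕ) = 8006 from rfl] at h1
      rw [h1] at hmv
      simp at hmv

end Act

/-- The outer automorphism group of the presented Fischer group `Fi₂₃` is trivial. -/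
theorem card_out_Fi23 : Nat.card (Cfsg.Out Cfsg.Spor.Fi23) = 1 := by
  obtain ⟨S⟩ := exists_act
  exact S.card_out

end

end CfsgLib.Fi23Out
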