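import Cfsg.Agent.Fi23Out.Tables
import Cfsg.Agent.Fi23Mult.Faithful
import Cfsg.Agent.Fi22Out.Fixed

/-!
The 31671 points of `Fi₂₃` as the conjugates of the base transposition, and the map of the
stabiliser of the base point onto `Fi₂₂` together with its effect on those points.
-/

set_option autoImplicit false
set_option maxRecDepth 100000
set_option linter.style.haveILetI false

namespace CfsgLib.Fi23Out

open CfsgLib.CosetEnum

noncomputable section

/-- The presented group. -/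
abbrev GT : Type := Fi23.setup.Grp

/-- The number of points. -/
abbrev M : ℕ := Fi23H.enum.n

/-- The transposition of the base point. -/
def zT : GT := prodw Fi23.setup.g (Fi23.zWord.map Fi23.lm)

/-- The facts about the action on the points, with the action of `Fi₂₂` on the short orbit. -/
structure Act where
  φ : GT →* Equiv.Perm (Fin M)
  inj : Function.Injective φ
  spec : ∀ w : List ℕ, (∀ x ∈ w, x < Fi23.setup.k) → ∀ i : Fin M,
    ((φ (prodw Fi23.setup.g w))⁻¹ i).val = walk Fi23H.enum.tb w i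
  stab : ∀ y : GT, φ y 0 = 0 ↔ Commute y zT
  mem_H : ∀ y : GT, y ∈ Fi23H.enum.H ↔ φ y 0 = 0
  trans : ∀ q : Fin M, ∃ y : GT, φ y 0 = q
  card : Nat.card GT = 4089470473293004800
  cardH : Nat.card Fi23H.enum.H = 2 * 64561751654400
  S' : Fi22Out.Act

theorem exists_act : Nonempty Act := by
  haveI := Fi23.finite_grp
  obtain ⟨S'⟩ := Fi22Out.exists_act
  obtain ⟨φ, e, hφ, he, he0, hinj, hG, hH, ψ, -, hk2, hker⟩ := Fi23.order_and_action
  have h1 : ∀ y : GT, φ y 0 = e (y : GT ⧸ Fi23H.enum.H) := fun y => by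
    rw [← he0, ← he y ((1 : GT) : GT ⧸ Fi23H.enum.H), MulAction.Quotient.smul_coe, smul_eq_mul, mul_one]
  have hmem : ∀ y : GT, y ∈ Fi23H.enum.H ↔ φ y 0 = 0 := fun y => by
    rw [h1, ← he0, e.injective.eq_iff, QuotientGroup.eq, mul_one, inv_mem_iff]
  have hle : Fi23H.enum.H ≤ Subgroup.centralizer ({zT} : Set GT) := by
    intro y hy
    obtain ⟨⟨k, hk⟩, hk1, -⟩ := (Nat.card_eq_two_iff' (1 : ψ.ker)).mp hk2
    have hkz : (k : GT) = zT := (hker k hk).resolve_left fun h => hk1 (Subtype.ext h)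
    have hc : (⟨y, hy⟩ : Fi23H.enum.H) * k * (⟨y, hy⟩ : Fi23H.enum.H)⁻¹ ∈ ψ.ker :=
      (MonoidHom.normal_ker ψ).conj_mem k hk _
    rw [Subgroup.mem_centralizer_singleton_iff]
    rcases hker _ hc with h | h
    · rw [mul_inv_eq_one, mul_eq_left] at h
      exact absurd (Subtype.ext h) hk1
    · refine mul_inv_eq_iff_eq_mul.mp ?_
      simpa [hkz, zT] using h
  have hC : Subgroup.centralizer ({zT} : Set GT) = Fi23H.enum.H := by
    refine (Fi23H.maximal φ e hφ he he0 hle).resolve_right fun htop => Fi23.z_ne_one φ hφ ?_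
    haveI : IsSimpleGroup GT := Fi23.isSimpleGroup_Fi23
    have hz : zT ∈ Subgroup.center GT := by
      rw [Subgroup.mem_center_iff]
      intro g
      have hg : g ∈ Subgroup.centralizer ({zT} : Set GT) := htop ▸ Subgroup.mem_top g
      exact Subgroup.mem_centralizer_singleton_iff.mp hg
    rcases IsSimpleGroup.eq_bot_or_eq_top_of_normal (Subgroup.center GT) inferInstance with h | h
    · rw [h] at hz
      exact Subgroup.mem_bot.mp hz
    · letI : CommGroup GT := Group.commGroupOfCenterEqTop h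
      have hp : (Nat.card GT).Prime := IsSimpleGroup.prime_card
      rw [hG] at hp
      exact absurd hp (by norm_num)
  refine ⟨⟨φ, hinj, hφ, fun y => ?_, hmem, fun q => ?_, hG, hH, S'⟩⟩
  · rw [← hmem, ← hC, Subgroup.mem_centralizer_singleton_iff]
    rfl
  · obtain ⟨c, hc⟩ := e.surjective q
    obtain ⟨y, rfl⟩ := QuotientGroup.mk_surjective c
    exact ⟨y, (h1 y).trans hc⟩

namespace Act

variable (S : Act)

/-- The transposition of a point. -/
def dP (q : Fin M) : GT := (S.trans q).choose * zT * (S.trans q).choose⁻¹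

theorem conj_z (y : GT) : y * zT * y⁻¹ = S.dP (S.φ y 0) := by
  unfold dP
  generalize hc : (S.trans (S.φ y 0)).choose = c
  have h : S.φ c 0 = S.φ y 0 := hc ▸ (S.trans (S.φ y 0)).choose_spec
  have h0 : S.φ (c⁻¹ * y) 0 = 0 := by
    rw [map_mul, map_inv, Equiv.Perm.mul_apply, ← h, Equiv.Perm.inv_def, Equiv.symm_apply_apply]
  have hcom := ((S.stab _).1 h0).eq
  calc y * zT * y⁻¹ = c * (c⁻¹ * y * zT) * y⁻¹ := by group
    _ = c * zT * c⁻¹ := by rw [hcom]; group

theorem d_conj {y : GT} {p q : Fin M} (h : S.φ y p = q) : S.dP q = y * S.dP p * y⁻¹ := by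
  have hp := (S.trans p).choose_spec
  have hdef : S.dP p = (S.trans p).choose * zT * (S.trans p).choose⁻¹ := rfl
  generalize (S.trans p).choose = c at hp hdef
  have hq : S.φ (y * c) 0 = q := by rw [map_mul, Equiv.Perm.mul_apply, hp, h]
  rw [hdef, ← hq, ← S.conj_z (y * c)]
  group

theorem dP_zero : S.dP 0 = zT := by
  have := S.conj_z 1
  rw [map_one, Equiv.Perm.one_apply, one_mul, inv_one, mul_one] at this
  exact this.symm

theorem d_inj {p q : Fin M} (h : S.dP p = S.dP q) : p = q := by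
  obtain ⟨a, ha⟩ := S.trans p
  obtain ⟨b, hb⟩ := S.trans q
  rw [← ha, ← hb, ← S.conj_z a, ← S.conj_z b] at h
  have hc : Commute (b⁻¹ * a) zT := by
    show b⁻¹ * a * zT = zT * (b⁻¹ * a)
    calc b⁻¹ * a * zT = b⁻¹ * (a * zT * a⁻¹) * a := by group
      _ = b⁻¹ * (b * zT * b⁻¹) * a := by rw [h]
      _ = _ := by group
  have h0 := (S.stab _).2 hc
  rw [map_mul, map_inv, Equiv.Perm.mul_apply, Equiv.Perm.inv_eq_iff_eq] at h0
  rw [← ha, ← hb, h0]

theorem commute_iff (y : GT) (q : Fin M) : Commute y (S.dP q) ↔ S.φ y q = q := by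
  constructor
  · intro h
    refine (S.d_inj ?_).symm
    rw [S.d_conj (p := q) (q := S.φ y q) (y := y) rfl, h.eq, mul_inv_cancel_right]
  · intro h
    have := S.d_conj h
    show y * S.dP q = S.dP q * y
    conv_rhs => rw [this]
    group

theorem z_mem : zT ∈ Fi23H.enum.H := Fi23.prodw_mem Fi23.zWord Fi23.zWord_lt

include S in
theorem z_ne_one : zT ≠ 1 := Fi23.z_ne_one S.φ S.spec

/-- The action on the short orbit, read in `Fi₂₂`. -/
def Restr (y : GT) (u : Fi22Out.G) : Prop :=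
  ∀ i, S.φ y (Fi23.ι i) = Fi23.ι (S.S'.φ u i)

theorem restr_unique {y : GT} {u v : Fi22Out.G} (h : S.Restr y u) (h' : S.Restr y v) : u = v :=
  S.S'.inj (Equiv.ext fun i => Fi23.ι_injective ((h i).symm.trans (h' i)))

theorem restr_exists (y : Fi23H.enum.H) : ∃ u, S.Restr y u :=
  Fi23.mem_H_restricts S.φ S.spec S.S'.φ S.S'.spec y y.2

/-- The map of the point stabiliser onto `Fi₂₂`. -/
def ψ : Fi23H.enum.H →* Fi22Out.G where
  toFun y := (S.restr_exists y).choose
  map_one' := S.restr_unique (S.restr_exists 1).choose_spec fun i => by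
    rw [Subgroup.coe_one, map_one, map_one, Equiv.Perm.one_apply, Equiv.Perm.one_apply]
  map_mul' y y' := S.restr_unique (S.restr_exists (y * y')).choose_spec fun i => by
    rw [Subgroup.coe_mul, map_mul, map_mul, Equiv.Perm.mul_apply, Equiv.Perm.mul_apply,
      (S.restr_exists y').choose_spec, (S.restr_exists y).choose_spec]

theorem ψ_spec (y : Fi23H.enum.H) : S.Restr y (S.ψ y) := (S.restr_exists y).choose_spec

theorem ψ_eq {y : Fi23H.enum.H} {u : Fi22Out.G} (h : S.Restr y u) : S.ψ y = u :=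
  S.restr_unique (S.ψ_spec y) h

theorem word_mem (w : List ℕ) (hw : ∀ x ∈ w, x < 9) : prodw Fi23.setup.g (w.map Fi23.lm) ∈ Fi23H.enum.H :=
  Fi23.prodw_mem w hw

theorem ψ_word (w : List ℕ) (hw : ∀ x ∈ w, x < 9) :
    S.ψ ⟨_, word_mem w hw⟩ = prodw Fi22.setup.g w :=
  S.ψ_eq fun i => Fi23.word_restricts S.φ S.spec S.S'.φ S.S'.spec w hw i

theorem ψ_surjective : Function.Surjective S.ψ := by
  have htop : (⊤ : Subgroup Fi22Out.G) ≤ S.ψ.range := by
    rw [← Fi22.setup.letSub_all (List.range 9) (fun x hx => List.mem_range.mpr hx)]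
    refine (Subgroup.closure_le _).mpr ?_
    rintro _ ⟨x, hx, rfl⟩
    exact ⟨⟨_, Fi23.g_mem x (List.mem_range.mp hx)⟩,
      S.ψ_eq (Fi23.letter_restricts S.φ S.spec S.S'.φ S.S'.spec x (List.mem_range.mp hx))⟩
  intro u
  exact htop (Subgroup.mem_top u)

theorem ψ_z : S.ψ ⟨zT, z_mem⟩ = 1 := by
  refine S.ψ_eq fun i => ?_
  rw [map_one, Equiv.Perm.one_apply]
  exact Fi23.z_restricts S.φ S.spec S.S'.φ S.S'.spec i

theorem ψ_ker {y : Fi23H.enum.H} (h : S.ψ y = 1) : (y : GT) = 1 ∨ (y : GT) = zT := by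
  haveI := Fi23.finite_grp
  have hc : Nat.card S.ψ.ker = 2 := by
    have e := Subgroup.card_eq_card_quotient_mul_card_subgroup S.ψ.ker
    rw [Nat.card_congr (QuotientGroup.quotientKerEquivOfSurjective S.ψ S.ψ_surjective).toEquiv, S.cardH,
      S.S'.card] at e
    omega
  obtain ⟨w, hw, huniq⟩ := (Nat.card_eq_two_iff' (1 : S.ψ.ker)).mp hc
  by_cases hy : y = 1
  · exact Or.inl (congrArg Subtype.val hy)
  · refine Or.inr ?_
    have e1 := huniq ⟨y, h⟩ fun e => hy (congrArg Subtype.val e)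
    have e2 := huniq ⟨⟨zT, z_mem⟩, S.ψ_z⟩ fun e => S.z_ne_one (congrArg (fun v : S.ψ.ker => ((v : Fi23H.enum.H) : GT)) e)
    exact congrArg (fun v : S.ψ.ker => ((v : Fi23H.enum.H) : GT)) (e1.trans e2.symm)

/-- The point of a generator. -/
def pt (x : ℕ) : Fin M := S.φ (prodw Fi23.setup.g (Fi23Mult.conjTo x))⁻¹ 0

theorem pt_val {x : ℕ} (hx : x < 10) : (S.pt x).val = walk Fi23H.enum.tb (Fi23Mult.conjTo x) 0 := by
  rw [pt, map_inv, S.spec _ (Fi23Mult.conjTo_lt x hx)]
  rfl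

theorem zEl_eq : Fi23H.zEl = zT := Fi23.zEl_eq

theorem dP_pt {x : ℕ} (hx : x < 10) : S.dP (S.pt x) = Fi23.setup.g x := by
  rw [pt, ← S.conj_z, inv_inv]
  have h := Fi23Mult.z_conj S.φ S.spec S.inj x hx
  rw [← Fi23Mult.prodw_eq_ev, Fi23Mult.gen_eq] at h
  rw [← zEl_eq]
  exact h

theorem walk_letter {x : ℕ} (hx : x < 10) (q : Fin M) :
    ((S.φ (Fi23.setup.g x)) q).val = walk Fi23H.enum.tb [x] q := by
  rw [← S.spec [x] (fun y hy => by rw [List.mem_singleton.mp hy]; exact hx),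
    show prodw Fi23.setup.g [x] = Fi23.setup.g x by simp [prodw], ← map_inv, ← Fi23.setup.hiv x hx hx]

theorem gpt_pts : (List.range 9).all (fun k =>
    Nat.beq (ext Fi23H.piTab (Fi22Out.gpt.getD k 0)) (walk Fi23H.enum.tb (Fi23Mult.conjTo (Fi23.lm k)) 0)) = true := by
  decide +kernel

theorem lm_lt {k : ℕ} (hk : k < 9) : Fi23.lm k < 10 := by interval_cases k <;> decide

theorem ι_gpF {k : ℕ} (hk : k < 9) : Fi23.ι (Fi22Out.gpF k) = S.pt (Fi23.lm k) := by
  refine Fin.ext ?_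
  rw [S.pt_val (lm_lt hk)]
  exact Nat.eq_of_beq_eq_true (List.all_eq_true.mp gpt_pts k (List.mem_range.mpr hk))

theorem pw_lt (i : Fin Fi22Out.N) : ∀ x ∈ Fi22Out.pw i, x < 9 := (Fi22Out.pw_spec (Fi22Out.lt_of_pt i)).2

/-- An element of the stabiliser carrying the first short-orbit point to a given one. -/
theorem φ_lift (i : Fin Fi22Out.N) :
    S.φ (prodw Fi23.setup.g ((Fi22Out.pw i).map Fi23.lm))⁻¹ (Fi23.ι 0) = Fi23.ι i := by
  have h := Fi23.word_restricts S.φ S.spec S.S'.φ S.S'.spec (Fi22Out.pw i) (pw_lt i) i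
  have h0 : S.S'.φ (prodw Fi22.setup.g (Fi22Out.pw i)) i = 0 := by
    have := S.S'.pw_zero i
    rw [map_inv, Equiv.Perm.inv_eq_iff_eq] at this
    exact this.symm
  rw [h0] at h
  rw [map_inv, ← h, Equiv.Perm.inv_def, Equiv.symm_apply_apply]

theorem dP_ι_word (i : Fin Fi22Out.N) :
    S.dP (Fi23.ι i) = prodw Fi23.setup.g ((Fi22Out.dw i).map Fi23.lm) := by
  have h0 : Fi23.ι 0 = S.pt 0 := by
    rw [show (0 : Fin Fi22Out.N) = Fi22Out.gpF 0 from Fin.ext rfl, S.ι_gpF (by norm_num)]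
    rfl
  have hrev : prodw Fi23.setup.g ((Fi22Out.pw i).map Fi23.lm).reverse =
      (prodw Fi23.setup.g ((Fi22Out.pw i).map Fi23.lm))⁻¹ := by
    have := prodw_rev_iv Fi23.setup.g Fi23.setup.k id (fun x h h' => Fi23.setup.hiv x h h')
      ((Fi22Out.pw i).map Fi23.lm) (fun y hy => by
        obtain ⟨a, ha, rfl⟩ := List.mem_map.mp hy
        exact ⟨lm_lt (pw_lt i a ha), lm_lt (pw_lt i a ha)⟩)
    simpa using this
  rw [S.d_conj (S.φ_lift i), h0, S.dP_pt (by norm_num), inv_inv, Fi22Out.dw, List.map_append,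
    List.map_reverse, List.map_cons, prodw_append, prodw_cons, hrev, mul_assoc]
  rfl

theorem dP_ι_mem (i : Fin Fi22Out.N) : S.dP (Fi23.ι i) ∈ Fi23H.enum.H := by
  rw [S.dP_ι_word]
  exact word_mem _ (Fi22Out.dw_lt (Fi22Out.lt_of_pt i))

theorem ψ_dP_ι (i : Fin Fi22Out.N) : S.ψ ⟨_, S.dP_ι_mem i⟩ = Fi22Out.d i := by
  rw [show (⟨_, S.dP_ι_mem i⟩ : Fi23H.enum.H) = ⟨_, word_mem _ (Fi22Out.dw_lt (Fi22Out.lt_of_pt i))⟩ from
    Subtype.ext (S.dP_ι_word i)]
  exact S.ψ_word (Fi22Out.dw i) (Fi22Out.dw_lt (Fi22Out.lt_of_pt i))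

/-- The points fixed by the base transposition. -/
theorem fixed_z {q : Fin M} (h : S.φ zT q = q) : q = 0 ∨ ∃ i, Fi23.ι i = q := by
  have key : ∀ (i0 : Fin M) (R dR steps : ℕ),
      reach Fi23H.enum.tb (fun s => Fi23H.enum.sW.getD s []) dR steps i0.val = R →
      ∀ j, bit R j = true → ∃ y ∈ Fi23H.enum.H, ((S.φ y)⁻¹ i0).val = j := fun i0 R dR steps hR =>
    reach_mem (H := Fi23H.enum.H) (fun s => Fi23H.enum.sW.getD s []) Fi23H.enum.sW.length
      (fun s => prodw Fi23.setup.g (Fi23H.enum.sW.getD s []))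
      (fun s hs => Subgroup.subset_closure ⟨s, hs, rfl⟩)
      (fun s hs i => S.spec _ (Fi23H.enum.sW_lt _ (by
        rw [List.getD_eq_getElem _ _ hs]; exact List.getElem_mem hs)) i)
      (fun s hs => List.getD_eq_default _ _ hs) i0 hR
  have hlt : q.val < 31671 := q.2
  have h1 := allR_spec 15 0 Fi23H.cover q.val (Nat.zero_le _) (by omega)
  rw [show Nat.blt q.val 31671 = true from Nat.blt_eq.mpr hlt] at h1
  simp only [cond_true] at h1
  rcases (memberOf_iff _ _ _).mp h1 with h2 | ⟨o, ho, -, hbit⟩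
  · exact Or.inl (Fin.ext h2)
  · have ho' : o < 2 := ho
    interval_cases o
    · exfalso
      obtain ⟨y, hy, hval⟩ := key ⟨1, show 1 < 31671 by decide⟩ _ 15 Fi23H.O0 Fi23H.reach0 q.val hbit
      have hyq : S.φ y⁻¹ ⟨1, show 1 < 31671 by decide⟩ = q := by rw [map_inv]; exact Fin.ext hval
      have hyz : Commute y⁻¹ zT := ((S.stab y).1 ((S.mem_H y).1 hy)).inv_left
      rw [← hyq, ← Equiv.Perm.mul_apply, ← map_mul, ← hyz.eq, map_mul, Equiv.Perm.mul_apply] at h
      have h3 := (S.φ y⁻¹).injective h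
      have h4 := S.spec (Fi23.zWord.map Fi23.lm) Fi23.zWord_map ⟨1, show 1 < 31671 by decide⟩
      have h5 : (S.φ zT)⁻¹ ⟨1, show 1 < 31671 by decide⟩ = ⟨1, show 1 < 31671 by decide⟩ := by
        rw [Equiv.Perm.inv_eq_iff_eq]; exact h3.symm
      change ((S.φ zT)⁻¹ _).val = _ at h4
      rw [h5] at h4
      have h6 := Fi23.z_moves
      rw [← h4, Nat.beq_refl] at h6
      cases h6
    · refine Or.inr ?_
      have h2 := orb_ok q.val hlt
      unfold orbEntry at h2
      rw [show Nat.blt q.val 31671 = true from Nat.blt_eq.mpr hlt,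
        show bit Fi23H.R1 q.val = true from hbit] at h2
      simp only [cond_true, Bool.and_eq_true, Nat.blt_eq, Nat.beq_eq] at h2
      exact ⟨⟨_, h2.1⟩, Fin.ext h2.2⟩

end Act

end

end CfsgLib.Fi23Out
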