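import Cfsg.Agent.CosetEnum.Fi23Simple.Transposition

/-!
Checks on the 31671 points of `Fi₂₃` used for its automorphisms: the fixed points of an element of
order 13, the orbit of length 3510, and the possible images of the last generator.
-/

set_option autoImplicit false
set_option maxRecDepth 100000
set_option Elab.async false

namespace CfsgLib.Fi23Out

open CfsgLib.CosetEnum

noncomputable section

/-- A word for an element of order 13 fixing the base point. -/
def xw : List ℕ := [6, 8, 9, 4, 1, 0, 6, 2, 5, 3]

/-- The element of order 13 fixes at most the base point and two further points. -/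
def xFixEntry (i : ℕ) : Bool :=
  bif Nat.blt i 31671 then
    bif Nat.beq (walk Fi23H.enum.tb xw i) i then Nat.beq i 0 || Nat.beq i 1 || Nat.beq i 8006 else true
  else true

/-- The short orbit consists of relabelled points. -/
def orbEntry (i : ℕ) : Bool :=
  bif Nat.blt i 31671 then
    bif bit Fi23H.R1 i then
      Nat.blt (ext Fi23H.ipTab i) 3510 && Nat.beq (ext Fi23H.piTab (ext Fi23H.ipTab i)) i
    else true
  else true

/-- Fixed by seven generators. -/
def fixSeven (i : ℕ) : Bool :=
  [0, 1, 2, 3, 4, 5, 9].all fun x => Nat.beq (walk Fi23H.enum.tb [x] i) i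

/-- A point fixed by seven generators and moved by the neighbour of the last one is one of two. -/
def lastEntry (i : ℕ) : Bool :=
  bif Nat.blt i 31671 then
    bif fixSeven i then Nat.beq (walk Fi23H.enum.tb [6] i) i || Nat.beq i 1 || Nat.beq i 8006 else true
  else true

theorem xFixPiece0 : allR xFixEntry 12 0 = true := by decide +kernel

theorem xFixPiece1 : allR xFixEntry 12 4096 = true := by decide +kernel

theorem xFixPiece2 : allR xFixEntry 12 8192 = true := by decide +kernel

theorem xFixPiece3 : allR xFixEntry 12 12288 = true := by decide +kernel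

theorem xFixPiece4 : allR xFixEntry 12 16384 = true := by decide +kernel

theorem xFixPiece5 : allR xFixEntry 12 20480 = true := by decide +kernel

theorem xFixPiece6 : allR xFixEntry 12 24576 = true := by decide +kernel

theorem xFixPiece7 : allR xFixEntry 12 28672 = true := by decide +kernel

theorem orbPiece0 : allR orbEntry 12 0 = true := by decide +kernel

theorem orbPiece1 : allR orbEntry 12 4096 = true := by decide +kernel

theorem orbPiece2 : allR orbEntry 12 8192 = true := by decide +kernel

theorem orbPiece3 : allR orbEntry 12 12288 = true := by decide +kernel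

theorem orbPiece4 : allR orbEntry 12 16384 = true := by decide +kernel

theorem orbPiece5 : allR orbEntry 12 20480 = true := by decide +kernel

theorem orbPiece6 : allR orbEntry 12 24576 = true := by decide +kernel

theorem orbPiece7 : allR orbEntry 12 28672 = true := by decide +kernel

theorem lastPiece0 : allR lastEntry 12 0 = true := by decide +kernel

theorem lastPiece1 : allR lastEntry 12 4096 = true := by decide +kernel

theorem lastPiece2 : allR lastEntry 12 8192 = true := by decide +kernel

theorem lastPiece3 : allR lastEntry 12 12288 = true := by decide +kernel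

theorem lastPiece4 : allR lastEntry 12 16384 = true := by decide +kernel

theorem lastPiece5 : allR lastEntry 12 20480 = true := by decide +kernel

theorem lastPiece6 : allR lastEntry 12 24576 = true := by decide +kernel

theorem lastPiece7 : allR lastEntry 12 28672 = true := by decide +kernel

theorem xFix_ok (i : ℕ) (hi : i < 31671) : xFixEntry i = true := by
  have hk : i / 4096 < 8 := by omega
  have h1 : i / 4096 * 4096 ≤ i := Nat.div_mul_le_self i 4096
  have h2 : i < i / 4096 * 4096 + 2 ^ 12 := by omega
  generalize i / 4096 = k at hk h1 h2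
  interval_cases k
  · exact allR_spec 12 0 xFixPiece0 i h1 h2
  · exact allR_spec 12 4096 xFixPiece1 i h1 h2
  · exact allR_spec 12 8192 xFixPiece2 i h1 h2
  · exact allR_spec 12 12288 xFixPiece3 i h1 h2
  · exact allR_spec 12 16384 xFixPiece4 i h1 h2
  · exact allR_spec 12 20480 xFixPiece5 i h1 h2
  · exact allR_spec 12 24576 xFixPiece6 i h1 h2
  · exact allR_spec 12 28672 xFixPiece7 i h1 h2

theorem orb_ok (i : ℕ) (hi : i < 31671) : orbEntry i = true := by
  have hk : i / 4096 < 8 := by omega
  have h1 : i / 4096 * 4096 ≤ i := Nat.div_mul_le_self i 4096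
  have h2 : i < i / 4096 * 4096 + 2 ^ 12 := by omega
  generalize i / 4096 = k at hk h1 h2
  interval_cases k
  · exact allR_spec 12 0 orbPiece0 i h1 h2
  · exact allR_spec 12 4096 orbPiece1 i h1 h2
  · exact allR_spec 12 8192 orbPiece2 i h1 h2
  · exact allR_spec 12 12288 orbPiece3 i h1 h2
  · exact allR_spec 12 16384 orbPiece4 i h1 h2
  · exact allR_spec 12 20480 orbPiece5 i h1 h2
  · exact allR_spec 12 24576 orbPiece6 i h1 h2
  · exact allR_spec 12 28672 orbPiece7 i h1 h2

theorem last_ok (i : ℕ) (hi : i < 31671) : lastEntry i = true := by
  have hk : i / 4096 < 8 := by omega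
  have h1 : i / 4096 * 4096 ≤ i := Nat.div_mul_le_self i 4096
  have h2 : i < i / 4096 * 4096 + 2 ^ 12 := by omega
  generalize i / 4096 = k at hk h1 h2
  interval_cases k
  · exact allR_spec 12 0 lastPiece0 i h1 h2
  · exact allR_spec 12 4096 lastPiece1 i h1 h2
  · exact allR_spec 12 8192 lastPiece2 i h1 h2
  · exact allR_spec 12 12288 lastPiece3 i h1 h2
  · exact allR_spec 12 16384 lastPiece4 i h1 h2
  · exact allR_spec 12 20480 lastPiece5 i h1 h2
  · exact allR_spec 12 24576 lastPiece6 i h1 h2
  · exact allR_spec 12 28672 lastPiece7 i h1 h2

end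

end CfsgLib.Fi23Out
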